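import Cfsg.Agent.H61.PermTwo.Defs

/-!
Numeric tables for degrees at most 8: `gThree`, `gFive`, `gSeven` are closed under the components
of degree 1 and p, and monotone in the cycle counter.
-/

namespace Cfsg.Agent.H61.PermTwo

/-- Bound for classes of 2-elements without marked fixed point (marked part). -/
def faSmall (a : ℕ) : ℕ := [1, 0, 1, 0, 3, 0, 3, 0, 17].getD a 17

/-- Stage `{2}`. -/
def gTwo (a b : ℕ) : ℕ := if a + b ≤ 8 then faSmall a * kTwo b else 1000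

/-- Table lookup. -/
def look (t : List (List (List (List ℕ)))) (i j a b : ℕ) : ℕ :=
  if i + j + a + b ≤ 8 then (((t.getD i []).getD j []).getD a []).getD b 1000 else 1000

/-- Table for the prime 3. -/
def tabThree : List (List (List (List ℕ))) := [
  [[[1, 1, 2, 4, 9, 9, 38, 38, 85], [0, 0, 0, 0, 0, 0, 0, 0], [1, 1, 2, 4, 9, 9, 38], [2, 4, 4, 18, 18, 40], [3, 3, 6, 12, 27], [2, 4, 4, 18], [11, 11, 26], [12, 24], [25]],
   [[1, 2, 2, 9, 9, 20, 38, 85], [0, 0, 0, 0, 0, 0, 0], [1, 2, 2, 9, 9, 20], [4, 4, 10, 18, 40], [3, 6, 6, 27], [4, 4, 10], [11, 26], [24]],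
   [[2, 2, 5, 9, 20, 20, 85], [0, 0, 0, 0, 0, 0], [2, 2, 5, 9, 20], [4, 10, 10, 40], [6, 6, 15], [4, 10], [26]],
   [[2, 5, 5, 20, 20, 45], [0, 0, 0, 0, 0], [2, 5, 5, 20], [10, 10, 20], [6, 15], [10]],
   [[5, 5, 10, 20, 45], [0, 0, 0, 0], [5, 5, 10], [10, 20], [15]],
   [[5, 10, 10, 45], [0, 0, 0], [5, 10], [20]],
   [[10, 10, 25], [0, 0], [10]],
   [[10, 25], [0]],
   [[25]]],
  [[[0, 0, 0, 0, 0, 0, 0, 0], [1, 1, 2, 4, 9, 9, 38], [0, 0, 0, 0, 0, 0], [3, 3, 6, 12, 27], [2, 4, 4, 18], [3, 3, 6], [12, 24], [25]],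
   [[0, 0, 0, 0, 0, 0, 0], [1, 2, 2, 9, 9, 20], [0, 0, 0, 0, 0], [3, 6, 6, 27], [4, 4, 10], [3, 6], [24]],
   [[0, 0, 0, 0, 0, 0], [2, 2, 5, 9, 20], [0, 0, 0, 0], [6, 6, 15], [4, 10], [6]],
   [[0, 0, 0, 0, 0], [2, 5, 5, 20], [0, 0, 0], [6, 15], [10]],
   [[0, 0, 0, 0], [5, 5, 10], [0, 0], [15]],
   [[0, 0, 0], [5, 10], [0]],
   [[0, 0], [10]],
   [[0]]],
  [[[1, 1, 2, 4, 9, 9, 38], [0, 0, 0, 0, 0, 0], [3, 3, 6, 12, 27], [2, 4, 4, 18], [3, 3, 6], [6, 12], [25]],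
   [[1, 2, 2, 9, 9, 20], [0, 0, 0, 0, 0], [3, 6, 6, 27], [4, 4, 10], [3, 6], [12]],
   [[2, 2, 5, 9, 20], [0, 0, 0, 0], [6, 6, 15], [4, 10], [6]],
   [[2, 5, 5, 20], [0, 0, 0], [6, 15], [10]],
   [[5, 5, 10], [0, 0], [15]],
   [[5, 10], [0]],
   [[10]]],
  [[[0, 0, 0, 0, 0, 0], [3, 3, 6, 12, 27], [0, 0, 0, 0], [3, 3, 6], [6, 12], [17]],
   [[0, 0, 0, 0, 0], [3, 6, 6, 27], [0, 0, 0], [3, 6], [12]],
   [[0, 0, 0, 0], [6, 6, 15], [0, 0], [6]],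
   [[0, 0, 0], [6, 15], [0]],
   [[0, 0], [15]],
   [[0]]],
  [[[3, 3, 6, 12, 27], [0, 0, 0, 0], [3, 3, 6], [6, 12], [17]],
   [[3, 6, 6, 27], [0, 0, 0], [3, 6], [12]],
   [[6, 6, 15], [0, 0], [6]],
   [[6, 15], [0]],
   [[15]]],
  [[[0, 0, 0, 0], [3, 3, 6], [0, 0], [17]],
   [[0, 0, 0], [3, 6], [0]],
   [[0, 0], [6]],
   [[0]]],
  [[[3, 3, 6], [0, 0], [17]],
   [[3, 6], [0]],
   [[6]]],
  [[[0, 0], [17]],
   [[0]]],
  [[[17]]]]

/-- Stage adding the prime 3. -/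
def gThree : ℕ → ℕ → ℕ → ℕ → ℕ := look tabThree

/-- Table for the prime 5. -/
def tabFive : List (List (List (List ℕ))) := [
  [[[1, 1, 2, 4, 9, 13, 46, 54, 121], [0, 0, 0, 0, 0, 0, 0, 0], [1, 1, 2, 4, 9, 13, 46], [2, 4, 4, 18, 18, 56], [3, 3, 6, 12, 27], [6, 12, 20, 54], [11, 11, 26], [16, 32], [41]],
   [[1, 2, 4, 9, 9, 46, 54, 121], [0, 0, 0, 0, 0, 0, 0], [1, 2, 4, 9, 9, 46], [4, 4, 18, 18, 40], [3, 6, 12, 27], [12, 20, 54], [11, 26], [32]],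
   [[2, 4, 9, 9, 38, 54, 121], [0, 0, 0, 0, 0, 0], [2, 4, 9, 9, 38], [4, 18, 18, 40], [6, 12, 27], [20, 54], [26]],
   [[4, 9, 9, 38, 38, 121], [0, 0, 0, 0, 0], [4, 9, 9, 38], [18, 18, 40], [12, 27], [54]],
   [[9, 9, 38, 38, 85], [0, 0, 0, 0], [9, 9, 38], [18, 40], [27]],
   [[9, 38, 38, 85], [0, 0, 0], [9, 38], [40]],
   [[38, 38, 85], [0, 0], [38]],
   [[38, 85], [0]],
   [[85]]],
  [[[0, 0, 0, 0, 0, 0, 0, 0], [1, 1, 2, 4, 9, 13, 46], [2, 4, 4, 18, 18, 56], [3, 3, 6, 12, 27], [2, 4, 4, 18], [11, 11, 26], [16, 32], [41]],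
   [[0, 0, 0, 0, 0, 0, 0], [1, 2, 4, 9, 9, 46], [4, 4, 18, 18, 40], [3, 6, 12, 27], [4, 4, 18], [11, 26], [32]],
   [[0, 0, 0, 0, 0, 0], [2, 4, 9, 9, 38], [4, 18, 18, 40], [6, 12, 27], [4, 18], [26]],
   [[0, 0, 0, 0, 0], [4, 9, 9, 38], [18, 18, 40], [12, 27], [18]],
   [[0, 0, 0, 0], [9, 9, 38], [18, 40], [27]],
   [[0, 0, 0], [9, 38], [40]],
   [[0, 0], [38]],
   [[0]]],
  [[[1, 1, 2, 4, 9, 13, 46], [2, 4, 4, 18, 18, 56], [3, 3, 6, 12, 27], [2, 4, 4, 18], [11, 11, 26], [16, 32], [41]],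
   [[1, 2, 4, 9, 9, 46], [4, 4, 18, 18, 40], [3, 6, 12, 27], [4, 4, 18], [11, 26], [32]],
   [[2, 4, 9, 9, 38], [4, 18, 18, 40], [6, 12, 27], [4, 18], [26]],
   [[4, 9, 9, 38], [18, 18, 40], [12, 27], [18]],
   [[9, 9, 38], [18, 40], [27]],
   [[9, 38], [40]],
   [[38]]],
  [[[2, 4, 4, 18, 18, 56], [3, 3, 6, 12, 27], [2, 4, 4, 18], [11, 11, 26], [12, 24], [41]],
   [[4, 4, 18, 18, 40], [3, 6, 12, 27], [4, 4, 18], [11, 26], [24]],
   [[4, 18, 18, 40], [6, 12, 27], [4, 18], [26]],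
   [[18, 18, 40], [12, 27], [18]],
   [[18, 40], [27]],
   [[40]]],
  [[[3, 3, 6, 12, 27], [2, 4, 4, 18], [11, 11, 26], [12, 24], [25]],
   [[3, 6, 12, 27], [4, 4, 18], [11, 26], [24]],
   [[6, 12, 27], [4, 18], [26]],
   [[12, 27], [18]],
   [[27]]],
  [[[2, 4, 4, 18], [11, 11, 26], [12, 24], [25]],
   [[4, 4, 18], [11, 26], [24]],
   [[4, 18], [26]],
   [[18]]],
  [[[11, 11, 26], [12, 24], [25]],
   [[11, 26], [24]],
   [[26]]],
  [[[12, 24], [25]],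
   [[24]]],
  [[[25]]]]

/-- Stage adding the prime 5. -/
def gFive : ℕ → ℕ → ℕ → ℕ → ℕ := look tabFive

/-- Table for the prime 7. -/
def tabSeven : List (List (List (List ℕ))) := [
  [[[1, 1, 2, 4, 9, 13, 46, 60, 133], [0, 0, 0, 0, 0, 0, 0, 0], [1, 1, 2, 4, 9, 13, 46], [2, 4, 4, 18, 18, 56], [3, 3, 6, 12, 27], [6, 12, 20, 54], [11, 11, 26], [22, 44], [41]],
   [[1, 2, 4, 9, 13, 46, 54, 133], [0, 0, 0, 0, 0, 0, 0], [1, 2, 4, 9, 13, 46], [4, 4, 18, 18, 56], [3, 6, 12, 27], [12, 20, 54], [11, 26], [44]],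
   [[2, 4, 9, 13, 46, 54, 121], [0, 0, 0, 0, 0, 0], [2, 4, 9, 13, 46], [4, 18, 18, 56], [6, 12, 27], [20, 54], [26]],
   [[4, 9, 13, 46, 54, 121], [0, 0, 0, 0, 0], [4, 9, 13, 46], [18, 18, 56], [12, 27], [54]],
   [[9, 13, 46, 54, 121], [0, 0, 0, 0], [9, 13, 46], [18, 56], [27]],
   [[13, 46, 54, 121], [0, 0, 0], [13, 46], [56]],
   [[46, 54, 121], [0, 0], [46]],
   [[54, 121], [0]],
   [[121]]],
  [[[0, 0, 0, 0, 0, 0, 0, 0], [1, 1, 2, 4, 9, 13, 46], [2, 4, 4, 18, 18, 56], [3, 3, 6, 12, 27], [6, 12, 20, 54], [11, 11, 26], [16, 32], [41]],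
   [[0, 0, 0, 0, 0, 0, 0], [1, 2, 4, 9, 13, 46], [4, 4, 18, 18, 56], [3, 6, 12, 27], [12, 20, 54], [11, 26], [32]],
   [[0, 0, 0, 0, 0, 0], [2, 4, 9, 13, 46], [4, 18, 18, 56], [6, 12, 27], [20, 54], [26]],
   [[0, 0, 0, 0, 0], [4, 9, 13, 46], [18, 18, 56], [12, 27], [54]],
   [[0, 0, 0, 0], [9, 13, 46], [18, 56], [27]],
   [[0, 0, 0], [13, 46], [56]],
   [[0, 0], [46]],
   [[0]]],
  [[[1, 1, 2, 4, 9, 13, 46], [2, 4, 4, 18, 18, 56], [3, 3, 6, 12, 27], [6, 12, 20, 54], [11, 11, 26], [16, 32], [41]],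
   [[1, 2, 4, 9, 13, 46], [4, 4, 18, 18, 56], [3, 6, 12, 27], [12, 20, 54], [11, 26], [32]],
   [[2, 4, 9, 13, 46], [4, 18, 18, 56], [6, 12, 27], [20, 54], [26]],
   [[4, 9, 13, 46], [18, 18, 56], [12, 27], [54]],
   [[9, 13, 46], [18, 56], [27]],
   [[13, 46], [56]],
   [[46]]],
  [[[2, 4, 4, 18, 18, 56], [3, 3, 6, 12, 27], [6, 12, 20, 54], [11, 11, 26], [16, 32], [41]],
   [[4, 4, 18, 18, 56], [3, 6, 12, 27], [12, 20, 54], [11, 26], [32]],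
   [[4, 18, 18, 56], [6, 12, 27], [20, 54], [26]],
   [[18, 18, 56], [12, 27], [54]],
   [[18, 56], [27]],
   [[56]]],
  [[[3, 3, 6, 12, 27], [6, 12, 20, 54], [11, 11, 26], [16, 32], [41]],
   [[3, 6, 12, 27], [12, 20, 54], [11, 26], [32]],
   [[6, 12, 27], [20, 54], [26]],
   [[12, 27], [54]],
   [[27]]],
  [[[6, 12, 20, 54], [11, 11, 26], [16, 32], [41]],
   [[12, 20, 54], [11, 26], [32]],
   [[20, 54], [26]],
   [[54]]],
  [[[11, 11, 26], [16, 32], [41]],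
   [[11, 26], [32]],
   [[26]]],
  [[[16, 32], [41]],
   [[32]]],
  [[[41]]]]

/-- Stage adding the prime 7. -/
def gSeven : ℕ → ℕ → ℕ → ℕ → ℕ := look tabSeven

/-- Closedness of a stage, as a finite check. -/
def ClosedSmall (p : ℕ) (g : ℕ → ℕ → ℕ → ℕ → ℕ) : Prop :=
  ∀ i < 9, ∀ j < 9 - i, ∀ a < 9 - (i + j), ∀ b < 9 - (i + j + a),
    (i + j + a + b + 1 ≤ 8 → g (i + 1) j a b ≤ g i j (a + 1) b ∧
      g i (j + 1) a b ≤ g i j a (b + 1) ∧ g i j a b ≤ g i (j + 1) a b) ∧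
    (i + j + a + b + p ≤ 8 →
      g (i + p) j a b + (p - 1) * g i (j + 1) a b ≤ g i j (a + p) b ∧
      g i (j + p) a b + (p - 1) * g i (j + 1) a b ≤ g i j a (b + p)) ∧
    g i j a b ≤ 1000

set_option synthInstance.maxSize 2048 in
set_option synthInstance.maxHeartbeats 200000 in
instance (p : ℕ) (g : ℕ → ℕ → ℕ → ℕ → ℕ) : Decidable (ClosedSmall p g) := by
  unfold ClosedSmall; infer_instance

theorem closedSmall_three : ClosedSmall 3 gThree := by decide +kernel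

theorem closedSmall_five : ClosedSmall 5 gFive := by decide +kernel

theorem closedSmall_seven : ClosedSmall 7 gSeven := by decide +kernel

theorem gThree_init (i j : ℕ) : gThree i j 0 0 = gTwo i j := by
  by_cases h : i + j ≤ 8
  · have H : ∀ i < 9, ∀ j < 9, i + j ≤ 8 → gThree i j 0 0 = gTwo i j := by decide +kernel
    exact H i (by omega) j (by omega) h
  · simp [gThree, look, gTwo, h]

theorem gFive_init (i j : ℕ) : gFive i j 0 0 = gThree 0 0 i j := by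
  by_cases h : i + j ≤ 8
  · have H : ∀ i < 9, ∀ j < 9, i + j ≤ 8 → gFive i j 0 0 = gThree 0 0 i j := by decide +kernel
    exact H i (by omega) j (by omega) h
  · simp [gThree, gFive, look, h]

theorem gSeven_init (i j : ℕ) : gSeven i j 0 0 = gFive 0 0 i j := by
  by_cases h : i + j ≤ 8
  · have H : ∀ i < 9, ∀ j < 9, i + j ≤ 8 → gSeven i j 0 0 = gFive 0 0 i j := by decide +kernel
    exact H i (by omega) j (by omega) h
  · simp [gFive, gSeven, look, h]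

theorem look_mono {p : ℕ} {t : List (List (List (List ℕ)))} (h : ClosedSmall p (look t))
    (i j j' a b : ℕ) (hjj : j ≤ j') : look t i j a b ≤ look t i j' a b := by
  have hm : Monotone fun j => look t i j a b := by
    refine monotone_nat_of_le_succ fun j => ?_
    by_cases hs : i + j + a + b + 1 ≤ 8
    · exact ((h i (by omega) j (by omega) a (by omega) b (by omega)).1 hs).2.2
    · have h2 : look t i (j + 1) a b = 1000 := by
        unfold look; rw [if_neg (by omega)]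
      show look t i j a b ≤ look t i (j + 1) a b
      rw [h2]
      by_cases h1 : i + j + a + b ≤ 8
      · exact (h i (by omega) j (by omega) a (by omega) b (by omega)).2.2
      · unfold look; rw [if_neg h1]
  exact hm hjj

/-- Bound for the derangement classes in degree `d ≤ 8`. -/
noncomputable def Dsmall (d : ℕ) : ℝ := (gSeven 0 0 d 0 : ℝ)

theorem small_num : ∀ d, 3 ≤ d → d ≤ 8 →
    Dsmall d + Dsmall (d - 1) + 2 ^ (d - 3) ≤ (2 : ℝ) ^ (d - 1) := by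
  intro d h3 h8
  have H : ∀ d < 9, 3 ≤ d →
      gSeven 0 0 d 0 + gSeven 0 0 (d - 1) 0 + 2 ^ (d - 3) ≤ 2 ^ (d - 1) := by decide +kernel
  unfold Dsmall
  exact_mod_cast H d (by omega) h3

theorem Dsmall_nonneg (d : ℕ) : 0 ≤ Dsmall d := Nat.cast_nonneg _

end Cfsg.Agent.H61.PermTwo
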